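import Cfsg.Agent.H942.DF.Frob
import Cfsg.Agent.H968.L34.BSet_m3
import Cfsg.Agent.H643.L34.Schur_m3
import Cfsg.Agent.H5.L34.Lang_m3
import Cfsg.Agent.ChevFast.E8
import Cfsg.Agent.ChevFast.Lin
import Cfsg.Agent.Lib.ListFast
import Cfsg.Agent.Prune
set_option linter.all false
prune_inst 0x7f00000000000000000000000000000000000000000000000000000000000000000000000000000000000000000000000000000000000000000000000000000000000000000000000000000000000000003fffffffffffffffffffffffffffbeffbdffffffff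
open scoped Cfsg.Agent.FastGrp

/-!
# S5917, type D: the three 8-dimensional representations of the fixed algebra of `E` (helper544)

* `io X w` : coordinates on the module of type `X` and character `w`; `pr X w` : the projection;
* `AA X w x` : the matrix of `x` (fixed by `E`) on this module: `br_io`;
* `AA_eq` : `AA X w x = AA X 0 x + la X w x • 1`;
* `qf`, `bf` : the quadratic form, `AA_sim`.
-/

set_option autoImplicit false
set_option maxRecDepth 100000

namespace Cfsg.Agent.H544.L34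

open Cfsg Cfsg.Lie Cfsg.Lie.ChevalleyDatum
open Cfsg.Agent.ChevalleyStructure Cfsg.Agent.ChevalleyStructure.LieAbs
open Cfsg.Agent.ChevalleyStructure.Columns (car cor)
open Cfsg.Agent.ChevalleyStructure.RootVec (rt)
open Cfsg.Agent.H939.L64 Cfsg.Agent.H413.L16 Cfsg.Agent.H201.L34 Cfsg.Agent.H251.L34
open Cfsg.Agent.H942.DF
open Cfsg.Agent.H400.L34 (ix Z00 expand0 br_mt z00_iff rtb_ne)
open Cfsg.Agent.H413.L64 (charKK)

/-- coordinates on the module of type `X` and character `w` -/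
noncomputable def io (X : Fin 3) (w : Fin 8) : (Fin 8 → KK) →ₗ[KK] LK where
  toFun v := ∑ k, v k • er (mt X w k)
  map_add' u v := by
    rw [← Finset.sum_add_distrib]
    exact Finset.sum_congr rfl fun k _ => add_smul _ _ _
  map_smul' c v := by
    rw [RingHom.id_apply, Finset.smul_sum]
    exact Finset.sum_congr rfl fun k _ => mul_smul _ _ _

/-- the projection -/
noncomputable def pr (X : Fin 3) (w : Fin 8) : LK →ₗ[KK] (Fin 8 → KK) where
  toFun u := fun k => u (ix (mt_lt X w k))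
  map_add' _ _ := rfl
  map_smul' _ _ := rfl

theorem io_def (X : Fin 3) (w : Fin 8) (v : Fin 8 → KK) : io X w v = ∑ k, v k • er (mt X w k) := rfl

theorem io_single (X : Fin 3) (w k : Fin 8) : io X w (Pi.single k 1) = er (mt X w k) := by
  rw [io_def, Finset.sum_eq_single k]
  · rw [Pi.single_eq_same, one_smul]
  · intro b _ hb
    rw [Pi.single_eq_of_ne hb, zero_smul]
  · intro h; exact absurd (Finset.mem_univ _) h

theorem er_mt_ix (X : Fin 3) (w k l : Fin 8) : er (mt X w k) (ix (mt_lt X w l)) = if k = l then 1 else 0 := by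
  unfold ix
  rw [er_inr]
  by_cases h : k = l
  · rw [if_pos h, if_pos (by rw [h])]
  · rw [if_neg h, if_neg]
    intro h'
    exact h (mt_inj X w k X w l h').2.2

theorem pr_er (X : Fin 3) (w k : Fin 8) : pr X w (er (mt X w k)) = Pi.single k 1 := by
  funext l
  show er (mt X w k) (ix (mt_lt X w l)) = _
  rw [er_mt_ix]
  by_cases h : k = l
  · subst h
    rw [if_pos rfl, Pi.single_eq_same]
  · rw [if_neg h, Pi.single_eq_of_ne (Ne.symm h)]

theorem pr_io (X : Fin 3) (w : Fin 8) (v : Fin 8 → KK) : pr X w (io X w v) = v := by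
  rw [io_def, map_sum]
  simp_rw [map_smul, pr_er]
  funext l
  rw [Finset.sum_apply, Finset.sum_eq_single l]
  · rw [Pi.smul_apply, Pi.single_eq_same, smul_eq_mul, mul_one]
  · intro b _ hb
    rw [Pi.smul_apply, Pi.single_eq_of_ne (Ne.symm hb), smul_zero]
  · intro h; exact absurd (Finset.mem_univ _) h

theorem io_inj (X : Fin 3) (w : Fin 8) : Function.Injective (io X w) :=
  Function.LeftInverse.injective (pr_io X w)

theorem IX_zero (X : Fin 3) (w : Fin 8) : IX X w 0 := ⟨fun _ => rfl, fun s hs => absurd rfl hs⟩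

theorem IX_add {X : Fin 3} {w : Fin 8} {u v : LK} (hu : IX X w u) (hv' : IX X w v) : IX X w (u + v) := by
  refine ⟨fun i => by rw [Pi.add_apply, hu.1, hv'.1, add_zero], fun s hs => ?_⟩
  by_cases h : u (Sum.inr s) = 0
  · refine hv'.2 s fun h' => hs ?_
    rw [Pi.add_apply, h, h', add_zero]
  · exact hu.2 s h

theorem IX_smul {X : Fin 3} {w : Fin 8} {u : LK} (c : KK) (hu : IX X w u) : IX X w (c • u) := by
  refine ⟨fun i => by rw [Pi.smul_apply, hu.1, smul_zero], fun s hs => ?_⟩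
  refine hu.2 s fun h' => hs ?_
  rw [Pi.smul_apply, h', smul_zero]

theorem IX_sum {ι : Type*} {X : Fin 3} {w : Fin 8} (s : Finset ι) (f : ι → LK) (h : ∀ i ∈ s, IX X w (f i)) :
    IX X w (∑ i ∈ s, f i) := by
  classical
  induction s using Finset.induction_on with
  | empty => rw [Finset.sum_empty]; exact IX_zero X w
  | insert a s ha ih =>
    rw [Finset.sum_insert ha]
    exact IX_add (h a (Finset.mem_insert_self _ _)) (ih fun i hi => h i (Finset.mem_insert_of_mem hi))

theorem IX_io (X : Fin 3) (w : Fin 8) (v : Fin 8 → KK) : IX X w (io X w v) := by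
  rw [io_def]
  exact IX_sum _ _ fun k _ => IX_smul _ (IX_er X w k)

theorem io_pr {X : Fin 3} {w : Fin 8} {u : LK} (hu : IX X w u) : io X w (pr X w u) = u := by
  funext a
  rcases a with i | s
  · rw [hu.1]
    exact (IX_io X w _).1 i
  · by_cases hs : ∃ k, (s : ℕ) = mt X w k
    · obtain ⟨k, hk⟩ := hs
      have e : (Sum.inr s : chevE8.Idx) = ix (mt_lt X w k) := by
        unfold ix
        congr 1
        exact Fin.ext hk
      rw [e]
      exact congrFun (pr_io X w (pr X w u)) k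
    · have h1 : u (Sum.inr s) = 0 := by
        by_contra h
        exact hs (hu.2 s h)
      have h2 : io X w (pr X w u) (Sum.inr s) = 0 := by
        by_contra h
        exact hs ((IX_io X w _).2 s h)
      rw [h1, h2]

/-! ### the representations -/

/-- the matrix of `x` on the module -/
noncomputable def AA (X : Fin 3) (w : Fin 8) : LK →ₗ[KK] Module.End KK (Fin 8 → KK) where
  toFun x := (pr X w).comp ((brM x).comp (io X w))
  map_add' x y := by
    ext v
    simp only [LinearMap.comp_apply, map_add, LinearMap.add_apply]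
  map_smul' c x := by
    ext v
    simp only [LinearMap.comp_apply, map_smul, LinearMap.smul_apply, RingHom.id_apply]

theorem AA_apply (X : Fin 3) (w : Fin 8) (x : LK) (v : Fin 8 → KK) : AA X w x v = pr X w (brK x (io X w v)) := rfl

theorem br_sum_r {ι : Type*} (s : Finset ι) (x : LK) (f : ι → LK) : brK x (∑ i ∈ s, f i) = ∑ i ∈ s, brK x (f i) :=
  map_sum (brM x) f s

/-- **the bracket in coordinates** -/
theorem br_io {x : LK} (hx : Z00 x) (X : Fin 3) (w : Fin 8) (v : Fin 8 → KK) :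
    brK x (io X w v) = io X w (AA X w x v) := by
  rw [AA_apply, io_pr]
  rw [io_def, br_sum_r]
  refine IX_sum _ _ fun k _ => ?_
  rw [br_smul_r]
  refine IX_smul _ ?_
  rw [br_mt hx]
  refine IX_add (IX_smul _ (IX_er X w k)) (IX_sum _ _ fun b _ => IX_smul _ ?_)
  split_ifs
  · exact IX_er X w _
  · exact IX_zero X w

/-- the diagonal coefficients -/
noncomputable def dg (x : LK) (X : Fin 3) (w k : Fin 8) : KK :=
  ∑ i, x (Sum.inl i) * ((car chevE8 i (mt X w k) : ℤ) : KK)

/-- the columns -/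
theorem AA_single {x : LK} (hx : Z00 x) (X : Fin 3) (w k : Fin 8) : AA X w x (Pi.single k 1) =
    dg x X w k • Pi.single k 1 + ∑ b : Fin 24, x (ix (dr_lt b)) •
      (if h : rtb X b k < 8 then (Pi.single ⟨rtb X b k, h⟩ 1 : Fin 8 → KK) else 0) := by
  rw [AA_apply, io_single, br_mt hx, map_add, map_smul, pr_er, map_sum]
  congr 1
  refine Finset.sum_congr rfl fun b _ => ?_
  rw [map_smul]
  congr 1
  split_ifs
  · rw [pr_er]
  · rw [map_zero]

private noncomputable def _root_.Cfsg.Agent.LsF.fc87831_0 : {f // @Cfsg.Agent.ChevFast.dz = f} := ⟨_, by delta Cfsg.Agent.ChevFast.dz; rewrite [Cfsg.Agent.LsF.cond_eq]; exact rfl⟩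
private noncomputable def _root_.Cfsg.Agent.LsF.fc87831_1 : {f // @Cfsg.Agent.ChevFast.gz = f} := ⟨_, by delta Cfsg.Agent.ChevFast.gz; rewrite [Cfsg.Agent.LsF.fc87831_0.2]; exact rfl⟩
private noncomputable def _root_.Cfsg.Agent.LsF.fc87831_2 : {f // @Cfsg.Agent.H251.L34.mt = f} := ⟨_, by delta Cfsg.Agent.H251.L34.mt; rewrite [Cfsg.Agent.LsF.nadd_pat, Cfsg.Agent.LsF.nmul_pat, Cfsg.Agent.LsF.getD_eq]; exact rfl⟩
theorem car_diff : ∀ (X : Fin 3) (w k i : Fin 8), car chevE8 i (mt X w k) - car chevE8 i (mt X 0 k) =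
    car chevE8 i (mt X w 0) - car chevE8 i (mt X 0 0) := by (delta Cfsg.Agent.ChevalleyStructure.Columns.car; (try set_option simprocs false in simp -zeta only [Cfsg.Agent.ChevFast.E8.cartanR]); (refine of_decide_eq_true ?_; rewrite [Cfsg.Agent.LsF.fc87831_1.2, Cfsg.Agent.LsF.fc87831_2.2, Cfsg.Agent.LsF.isub_pat, Cfsg.Agent.LsF.instIDecEq_eq, Cfsg.Agent.LsF.dForallFin_eq, Cfsg.Agent.LsF.decide_eq]; decide +kernel))

private noncomputable def _root_.Cfsg.Agent.LsF.fc87831_3 : {f // @Cfsg.Agent.ChevFast.Lin.dG = f} := ⟨_, by delta Cfsg.Agent.ChevFast.Lin.dG; rewrite [Cfsg.Agent.LsF.dIff_eq, Cfsg.Agent.LsF.dBoolEq_eq]; exact rfl⟩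
theorem car_sum : ∀ (X : Fin 3) (w k i : Fin 8), car chevE8 i (mt X w k) + car chevE8 i (mt X w (Fin.rev k)) =
    car chevE8 i (mt X w 0) + car chevE8 i (mt X w 7) := by (delta Cfsg.Agent.ChevalleyStructure.Columns.car; (try set_option simprocs false in simp -zeta only [Cfsg.Agent.ChevFast.E8.cartanR]); open scoped Cfsg.Agent.ChevFast.Lin in (refine of_decide_eq_true ?_; rewrite [Cfsg.Agent.LsF.fc87831_1.2, Cfsg.Agent.LsF.fc87831_2.2, Cfsg.Agent.LsF.fc87831_3.2, Cfsg.Agent.LsF.iadd_pat, Cfsg.Agent.LsF.instIDecEq_eq, Cfsg.Agent.LsF.decide_eq]; decide +kernel))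

/-- the scalar part -/
noncomputable def la (X : Fin 3) (w : Fin 8) (x : LK) : KK := dg x X w 0 - dg x X 0 0

theorem dg_diff (x : LK) (X : Fin 3) (w k : Fin 8) : dg x X w k = dg x X 0 k + la X w x := by
  have h1 : dg x X w k - dg x X 0 k = la X w x := by
    unfold la dg
    rw [← Finset.sum_sub_distrib, ← Finset.sum_sub_distrib]
    refine Finset.sum_congr rfl fun i _ => ?_
    have h2 := congrArg (fun a : ℤ => (a : KK)) (car_diff X w k i)
    push_cast at h2
    rw [← mul_sub, ← mul_sub]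
    exact congrArg _ h2
  rw [← h1]
  ring

theorem dg_rev (x : LK) (X : Fin 3) (w k : Fin 8) : dg x X w k + dg x X w (Fin.rev k) = dg x X w 0 + dg x X w 7 := by
  unfold dg
  rw [← Finset.sum_add_distrib, ← Finset.sum_add_distrib]
  refine Finset.sum_congr rfl fun i _ => ?_
  have h2 := congrArg (fun a : ℤ => (a : KK)) (car_sum X w k i)
  push_cast at h2
  rw [← mul_add, ← mul_add]
  exact congrArg _ h2

/-- **the characters differ by scalars** -/
theorem AA_eq {x : LK} (hx : Z00 x) (X : Fin 3) (w : Fin 8) :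
    AA X w x = AA X 0 x + la X w x • (1 : Module.End KK (Fin 8 → KK)) := by
  refine (Pi.basisFun KK (Fin 8)).ext fun k => ?_
  rw [Pi.basisFun_apply, LinearMap.add_apply, LinearMap.smul_apply, Module.End.one_apply, AA_single hx, AA_single hx,
    dg_diff x X w k, add_smul]
  abel

/-! ### the form -/

/-- half of the form -/
noncomputable def hf : (Fin 8 → KK) →ₗ[KK] (Fin 8 → KK) →ₗ[KK] KK :=
  LinearMap.mk₂ KK (fun v w => v 0 * w 7 + v 1 * w 6 + v 2 * w 5 + v 3 * w 4)
    (fun _ _ _ => by simp only [Pi.add_apply]; ring) (fun _ _ _ => by simp only [Pi.smul_apply, smul_eq_mul]; ring)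
    (fun _ _ _ => by simp only [Pi.add_apply]; ring) (fun _ _ _ => by simp only [Pi.smul_apply, smul_eq_mul]; ring)

/-- the quadratic form -/
noncomputable def qf : QuadraticForm KK (Fin 8 → KK) := LinearMap.BilinMap.toQuadraticMap hf

/-- the bilinear form -/
noncomputable def bf : (Fin 8 → KK) →ₗ[KK] (Fin 8 → KK) →ₗ[KK] KK := hf + hf.flip

theorem qf_apply (v : Fin 8 → KK) : qf v = v 0 * v 7 + v 1 * v 6 + v 2 * v 5 + v 3 * v 4 := rfl

theorem bf_apply (v w : Fin 8 → KK) : bf v w = ∑ k, v k * w (Fin.rev k) := by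
  have h1 : bf v w = v 0 * w 7 + v 1 * w 6 + v 2 * w 5 + v 3 * w 4 + (w 0 * v 7 + w 1 * v 6 + w 2 * v 5 + w 3 * v 4) := rfl
  rw [h1, Fin.sum_univ_eight]
  show _ = v 0 * w 7 + v 1 * w 6 + v 2 * w 5 + v 3 * w 4 + v 4 * w 3 + v 5 * w 2 + v 6 * w 1 + v 7 * w 0
  ring

theorem qf_add (v w : Fin 8 → KK) : qf (v + w) = qf v + qf w + bf v w := by
  have h1 : bf v w = v 0 * w 7 + v 1 * w 6 + v 2 * w 5 + v 3 * w 4 + (w 0 * v 7 + w 1 * v 6 + w 2 * v 5 + w 3 * v 4) := rfl
  rw [h1, qf_apply, qf_apply, qf_apply]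
  simp only [Pi.add_apply]
  ring

theorem polar_qf (v w : Fin 8 → KK) : QuadraticMap.polar qf v w = bf v w := by
  unfold QuadraticMap.polar
  rw [qf_add]
  ring

theorem bf_single (k : Fin 8) (v : Fin 8 → KK) : bf (Pi.single k 1) v = v (Fin.rev k) := by
  rw [bf_apply, Finset.sum_eq_single k]
  · rw [Pi.single_eq_same, one_mul]
  · intro b _ hb
    rw [Pi.single_eq_of_ne hb, zero_mul]
  · intro h; exact absurd (Finset.mem_univ _) h

theorem bf_nd (v : Fin 8 → KK) (h : ∀ w, bf w v = 0) : v = 0 := by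
  funext k
  have h1 := h (Pi.single (Fin.rev k) 1)
  rw [bf_single, Fin.rev_rev] at h1
  exact h1

theorem bf_comm (v w : Fin 8 → KK) : bf v w = bf w v := by
  have h1 := qf_add v w
  have h2 := qf_add w v
  rw [add_comm w v] at h2
  linear_combination h2 - h1

private noncomputable def _root_.Cfsg.Agent.LsF.fc87831_4 : {f // @Cfsg.Agent.H251.L34.rtb = f} := ⟨_, by delta Cfsg.Agent.H251.L34.rtb; rewrite [Cfsg.Agent.LsF.nadd_pat, Cfsg.Agent.LsF.nmul_pat, Cfsg.Agent.LsF.getD_eq]; exact rfl⟩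
theorem rtb_rev : ∀ (X : Fin 3) (b : Fin 24) (k : Fin 8) (h : rtb X b k < 8),
    rtb X b (Fin.rev ⟨rtb X b k, h⟩) = (Fin.rev k : Fin 8) ∧ Fin.rev ⟨rtb X b k, h⟩ ≠ k := by (refine of_decide_eq_true ?_; rewrite [Cfsg.Agent.LsF.fc87831_4.2, Cfsg.Agent.LsF.instDecEq_eq, Cfsg.Agent.LsF.decLt_eq, Cfsg.Agent.LsF.dAnd_eq, Cfsg.Agent.LsF.dNot_eq, Cfsg.Agent.LsF.dFinEq_eq, Cfsg.Agent.LsF.dForallFin_eq, Cfsg.Agent.LsF.decide_eq]; decide +kernel)

/-- the matrices are infinitesimal similitudes -/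
theorem AA_sim' {x : LK} (hx : Z00 x) (X : Fin 3) (w : Fin 8) (v : Fin 8 → KK) :
    bf (AA X w x v) v = (dg x X w 0 + dg x X w 7) * qf v := by
  have hch : CharP KK 2 := charKK
  have hv : AA X w x v = ∑ k, v k • AA X w x (Pi.single k 1) := by
    conv_lhs => rw [← (Pi.basisFun KK (Fin 8)).sum_repr v]
    rw [map_sum]
    refine Finset.sum_congr rfl fun k _ => ?_
    rw [map_smul, Pi.basisFun_apply, Pi.basisFun_repr]
  rw [hv, map_sum, LinearMap.sum_apply]
  have h1 : ∀ k : Fin 8, bf (v k • AA X w x (Pi.single k 1)) v = dg x X w k * (v k * v (Fin.rev k)) +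
      ∑ b : Fin 24, x (ix (dr_lt b)) * (if h : rtb X b k < 8 then v k * v (Fin.rev ⟨rtb X b k, h⟩) else 0) := by
    intro k
    rw [AA_single hx, map_smul, LinearMap.smul_apply, map_add, LinearMap.add_apply, map_smul, LinearMap.smul_apply,
      bf_single, map_sum, LinearMap.sum_apply, smul_eq_mul, smul_eq_mul, mul_add, Finset.mul_sum]
    congr 1
    · ring
    · refine Finset.sum_congr rfl fun b _ => ?_
      rw [map_smul, LinearMap.smul_apply, smul_eq_mul]
      split_ifs with h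
      · rw [bf_single]; ring
      · rw [map_zero, LinearMap.zero_apply]; ring
  rw [Finset.sum_congr rfl fun k _ => h1 k, Finset.sum_add_distrib, Finset.sum_comm]
  have h2 : ∑ b : Fin 24, ∑ k : Fin 8, x (ix (dr_lt b)) *
      (if h : rtb X b k < 8 then v k * v (Fin.rev ⟨rtb X b k, h⟩) else 0) = 0 := by
    refine Finset.sum_eq_zero fun b _ => ?_
    rw [← Finset.mul_sum]
    have h3 : ∑ k : Fin 8, (if h : rtb X b k < 8 then v k * v (Fin.rev ⟨rtb X b k, h⟩) else 0) = 0 := by
      have h4 : ∑ k : Fin 8, (if h : rtb X b k < 8 then v k * v (Fin.rev ⟨rtb X b k, h⟩) else 0) =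
          ∑ k ∈ Finset.univ.filter (fun k : Fin 8 => rtb X b k < 8),
            (if h : rtb X b k < 8 then v k * v (Fin.rev ⟨rtb X b k, h⟩) else 0) := by
        rw [Finset.sum_filter]
        refine Finset.sum_congr rfl fun k _ => ?_
        by_cases h : rtb X b k < 8
        · rw [if_pos h]
        · rw [if_neg h, dif_neg h]
      rw [h4]
      refine Finset.sum_involution (fun k hk => Fin.rev ⟨rtb X b k, (Finset.mem_filter.1 hk).2⟩) ?_ ?_ ?_ ?_
      · intro k hk
        have hk' := (Finset.mem_filter.1 hk).2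
        obtain ⟨e1, -⟩ := rtb_rev X b k hk'
        have e2 : rtb X b (Fin.rev ⟨rtb X b k, hk'⟩) < 8 := by rw [e1]; exact (Fin.rev k).2
        rw [dif_pos hk', dif_pos e2]
        have e3 : (⟨rtb X b (Fin.rev ⟨rtb X b k, hk'⟩), e2⟩ : Fin 8) = Fin.rev k := Fin.ext e1
        rw [e3, Fin.rev_rev, mul_comm (v (Fin.rev _)) (v k), CharTwo.add_self_eq_zero]
      · intro k hk _
        exact (rtb_rev X b k (Finset.mem_filter.1 hk).2).2
      · intro k hk
        have hk' := (Finset.mem_filter.1 hk).2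
        obtain ⟨e1, -⟩ := rtb_rev X b k hk'
        rw [Finset.mem_filter]
        exact ⟨Finset.mem_univ _, by rw [e1]; exact (Fin.rev k).2⟩
      · intro k hk
        have hk' := (Finset.mem_filter.1 hk).2
        obtain ⟨e1, -⟩ := rtb_rev X b k hk'
        have e3 : (⟨rtb X b (Fin.rev ⟨rtb X b k, hk'⟩), by rw [e1]; exact (Fin.rev k).2⟩ : Fin 8) = Fin.rev k :=
          Fin.ext e1
        show Fin.rev (⟨rtb X b (Fin.rev ⟨rtb X b k, hk'⟩), _⟩ : Fin 8) = k
        rw [e3, Fin.rev_rev]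
    rw [h3, mul_zero]
  rw [h2, add_zero, Fin.sum_univ_eight, qf_apply]
  have r0 := dg_rev x X w 0
  have r1 := dg_rev x X w 1
  have r2 := dg_rev x X w 2
  have r3 := dg_rev x X w 3
  have e0 : Fin.rev (0 : Fin 8) = 7 := rfl
  have e1 : Fin.rev (1 : Fin 8) = 6 := rfl
  have e2 : Fin.rev (2 : Fin 8) = 5 := rfl
  have e3 : Fin.rev (3 : Fin 8) = 4 := rfl
  have e4 : Fin.rev (4 : Fin 8) = 3 := rfl
  have e5 : Fin.rev (5 : Fin 8) = 2 := rfl
  have e6 : Fin.rev (6 : Fin 8) = 1 := rfl
  have e7 : Fin.rev (7 : Fin 8) = 0 := rfl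
  rw [e1] at r1
  rw [e2] at r2
  rw [e3] at r3
  rw [e0, e1, e2, e3, e4, e5, e6, e7]
  linear_combination (v 1 * v 6) * r1 + (v 2 * v 5) * r2 + (v 3 * v 4) * r3

theorem AA_sim {x : LK} (hx : Z00 x) (X : Fin 3) (w : Fin 8) :
    ∃ c : KK, ∀ v, bf (AA X w x v) v = c * qf v := ⟨_, AA_sim' hx X w⟩

end Cfsg.Agent.H544.L34

private theorem dce_7a95ac5b677e : _root_.True := by
  try have : _root_.True := by simp only [_root_.Cfsg.Agent.H400.L34.ix.congr_simp]
  exact _root_.True.intro
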